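import Cfsg.Agent.Lib.O7Three.Data
import Cfsg.Agent.Lib.CosetEnum.O7Rep.Hom

/-!
# Kernel checks of the certificate for the subgroups of order three
-/

set_option autoImplicit false
set_option maxRecDepth 20000

namespace Cfsg.Agent.Lib.O7Three.Check

open Cfsg.Agent.Lib.CosetEnum
open Cfsg.Agent.Lib.O7Three.Cert

/-- The base of the stabiliser chain. -/
def base : List ℕ := [0, 1, 3, 9, 81, 243]

/-- The image of a point along a word on the vectors. -/
noncomputable def imgV (l : List ℕ) (i : ℕ) : ℕ := scan 8 O7Rep.table l i

/-- The image of a point along a word on the spinor points. -/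
def imgS (l : List ℕ) (i : ℕ) : ℕ := fold 11 Data.spinGens l i

/-- The singular vectors. -/
noncomputable def sing (i : ℕ) : Bool := Nat.beq (O7Rep.formN i) 0

theorem tab_ok : ((List.range Data.steps.length).all fun k =>
    stepOk 8 2187 12 imgV Data.tab k (Data.steps.getD k (.word []))) = true := by
  decide +kernel

theorem spin_ok : ((List.range Data.steps.length).all fun k =>
    stepOk 8 1080 11 imgS Data.spin k (Data.steps.getD k (.word []))) = true := by
  decide +kernel

theorem spinGens_ok : ((List.range 8).all fun g => (List.range 1080).all fun i =>
    Nat.blt (imgS [g] i) 1080 && Nat.beq (imgS [g, g] i) i) = true := by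
  decide +kernel

theorem spin_rels : (Fi22Sub.RL0.all fun l => (l.all fun g => Nat.blt g 8) &&
    (List.range 1080).all fun i => Nat.beq (imgS l i) i) = true := by
  decide +kernel

theorem lists_ok : (Data.gens.all fun a => Nat.blt a Data.steps.length) = true ∧
    (Data.conjs.all fun a => Nat.blt a Data.steps.length) = true ∧ Data.gens.length = 9 ∧
    Data.roots.length = 7 ∧ (Data.roots.all fun x => Nat.blt 0 x && Nat.blt x 19683) = true := by
  decide +kernel

theorem rel_ok : ((List.range 9).all fun i => relOk 12 Data.tab base Data.gens Data.rels i) = true := by
  decide +kernel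

theorem top_ok : ((List.range 9).all fun i => topOk 12 Data.tab base Data.gens i) = true := by
  decide +kernel

theorem roots_ok : (Data.roots.all fun x =>
    let s := nfi Data.gens 9 0 x
    eqB 12 Data.tab base (s ++ s ++ s) [] && !eqB 12 Data.tab base s []) = true := by
  decide +kernel

theorem invs_ok : (Data.roots.map fun x => (fixCount 12 Data.tab (nfi Data.gens 9 0 x) 2187 sing,
    fixCount 11 Data.spin (nfi Data.gens 9 0 x) 1080 fun _ => true)) = Data.invs := by
  decide +kernel

theorem invs_nodup : Data.invs.Nodup := by decide +kernel

theorem forest_part0 : ((List.range' 0 2461).all fun x =>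
    Nat.beq x 0 || forestOk 12 Data.tab base Data.gens Data.conjs Data.roots Data.forest x) = true := by
  decide +kernel

theorem forest_part1 : ((List.range' 2461 2461).all fun x =>
    Nat.beq x 0 || forestOk 12 Data.tab base Data.gens Data.conjs Data.roots Data.forest x) = true := by
  decide +kernel

theorem forest_part2 : ((List.range' 4922 2461).all fun x =>
    Nat.beq x 0 || forestOk 12 Data.tab base Data.gens Data.conjs Data.roots Data.forest x) = true := by
  decide +kernel

theorem forest_part3 : ((List.range' 7383 2461).all fun x =>
    Nat.beq x 0 || forestOk 12 Data.tab base Data.gens Data.conjs Data.roots Data.forest x) = true := by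
  decide +kernel

theorem forest_part4 : ((List.range' 9844 2461).all fun x =>
    Nat.beq x 0 || forestOk 12 Data.tab base Data.gens Data.conjs Data.roots Data.forest x) = true := by
  decide +kernel

theorem forest_part5 : ((List.range' 12305 2461).all fun x =>
    Nat.beq x 0 || forestOk 12 Data.tab base Data.gens Data.conjs Data.roots Data.forest x) = true := by
  decide +kernel

theorem forest_part6 : ((List.range' 14766 2461).all fun x =>
    Nat.beq x 0 || forestOk 12 Data.tab base Data.gens Data.conjs Data.roots Data.forest x) = true := by
  decide +kernel

theorem forest_part7 : ((List.range' 17227 2456).all fun x =>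
    Nat.beq x 0 || forestOk 12 Data.tab base Data.gens Data.conjs Data.roots Data.forest x) = true := by
  decide +kernel

/-- All elements of the Sylow subgroup. -/
theorem forest_ok : ∀ x < 19683, x ≠ 0 →
    forestOk 12 Data.tab base Data.gens Data.conjs Data.roots Data.forest x = true := by
  intro x hx hx0
  have key : ∀ a n, ((List.range' a n).all fun y =>
      Nat.beq y 0 || forestOk 12 Data.tab base Data.gens Data.conjs Data.roots Data.forest y) = true →
      a ≤ x → x < a + n → forestOk 12 Data.tab base Data.gens Data.conjs Data.roots Data.forest x = true := by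
    intro a n h ha hn
    have h2 := List.all_eq_true.1 h x (List.mem_range'_1.2 ⟨ha, hn⟩)
    simp only [Bool.or_eq_true, Nat.beq_eq] at h2
    exact h2.resolve_left hx0
  by_cases h0 : x < 2461
  · exact key 0 2461 forest_part0 (by omega) h0
  by_cases h1 : x < 4922
  · exact key 2461 2461 forest_part1 (by omega) h1
  by_cases h2 : x < 7383
  · exact key 4922 2461 forest_part2 (by omega) h2
  by_cases h3 : x < 9844
  · exact key 7383 2461 forest_part3 (by omega) h3
  by_cases h4 : x < 12305
  · exact key 9844 2461 forest_part4 (by omega) h4
  by_cases h5 : x < 14766
  · exact key 12305 2461 forest_part5 (by omega) h5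
  by_cases h6 : x < 17227
  · exact key 14766 2461 forest_part6 (by omega) h6
  exact key 17227 2456 forest_part7 (by omega) (by omega)

end Cfsg.Agent.Lib.O7Three.Check
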