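import Cfsg.Agent.Lib.O7Three.Check
import Cfsg.Agent.Lib.Schur.WordCodeCert

/-!
# The subgroups of order three of the 7-dimensional orthogonal group over three elements: seven classes
-/

set_option autoImplicit false
set_option maxRecDepth 20000

namespace Cfsg.Agent.Lib.O7Three.Main

open Cfsg.Agent.Lib.CosetEnum
open Cfsg.Agent.Lib.CosetEnum.O7Slp (level0 level1 level2 level3 level4 level5)
open Cfsg.Agent.Lib.O7Three.Cert Cfsg.Agent.Lib.O7Three.Check

attribute [local irreducible] Cert.fold Cert.nfi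

local instance : Fact (Nat.Prime 3) := ⟨Nat.prime_three⟩

theorem base_eq :
    [level0, level1, level2, level3, level4, level5].map OrbLevel.base = Check.base := by
  decide +kernel

theorem formN_lt (i : ℕ) : O7Rep.formN i < 3 := Nat.mod_lt _ (by norm_num)

theorem sing_σ (x : Cfsg.isometryGroup (ZMod 3) (Cfsg.quadFormOdd 3 (ZMod 3))) (i : Fin 2187) :
    sing (O7Rep.σ x i).1 = sing i.1 := by
  have h1 : O7Rep.vec (O7Rep.σ x i) = Matrix.mulVec x.1.1 (O7Rep.vec i) := by
    show O7Rep.vecEquiv (O7Rep.vecEquiv.symm _) = _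
    rw [Equiv.apply_symm_apply]
    rfl
  have h2 : Cfsg.quadFormOdd 3 (ZMod 3) (O7Rep.vec (O7Rep.σ x i)) =
      Cfsg.quadFormOdd 3 (ZMod 3) (O7Rep.vec i) := by
    rw [h1]
    have h := x.2
    exact h (O7Rep.vec i) (O7Rep.vec i)
  rw [O7Rep.form_vec, O7Rep.form_vec] at h2
  have h3 : O7Rep.formN (O7Rep.σ x i).1 = O7Rep.formN i.1 := by
    have := (ZMod.natCast_eq_natCast_iff _ _ 3).1 h2
    exact Nat.ModEq.eq_of_lt_of_lt this (formN_lt _) (formN_lt _)
  rw [sing, sing, h3]

/-- The generators on the spinor points. -/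
def spinPerm (g : ℕ) : Equiv.Perm (Fin 1080) :=
  if h : g < 8 then
    { toFun := fun i => ⟨imgS [g] i.1 % 1080, Nat.mod_lt _ (by norm_num)⟩
      invFun := fun i => ⟨imgS [g] i.1 % 1080, Nat.mod_lt _ (by norm_num)⟩
      left_inv := fun i => by
        have hg := List.all_eq_true.1 (List.all_eq_true.1 spinGens_ok g (List.mem_range.2 h)) i.1
          (List.mem_range.2 i.2)
        simp only [Bool.and_eq_true, Nat.blt_eq, Nat.beq_eq] at hg
        refine Fin.ext ?_
        show imgS [g] (imgS [g] i.1 % 1080) % 1080 = i.1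
        rw [Nat.mod_eq_of_lt hg.1]
        have h2 : imgS [g] (imgS [g] i.1) = i.1 := by
          have := hg.2
          simp only [imgS, Cert.fold, List.foldl_cons, List.foldl_nil] at this ⊢
          exact this
        rw [h2, Nat.mod_eq_of_lt i.2]
      right_inv := fun i => by
        have hg := List.all_eq_true.1 (List.all_eq_true.1 spinGens_ok g (List.mem_range.2 h)) i.1
          (List.mem_range.2 i.2)
        simp only [Bool.and_eq_true, Nat.blt_eq, Nat.beq_eq] at hg
        refine Fin.ext ?_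
        show imgS [g] (imgS [g] i.1 % 1080) % 1080 = i.1
        rw [Nat.mod_eq_of_lt hg.1]
        have h2 : imgS [g] (imgS [g] i.1) = i.1 := by
          have := hg.2
          simp only [imgS, Cert.fold, List.foldl_cons, List.foldl_nil] at this ⊢
          exact this
        rw [h2, Nat.mod_eq_of_lt i.2] }
  else 1

theorem spinPerm_inv (g : ℕ) (hg : g < 8) (i : Fin 1080) :
    ((spinPerm g)⁻¹ i).1 = imgS [g] i.1 := by
  have h := List.all_eq_true.1 (List.all_eq_true.1 spinGens_ok g (List.mem_range.2 hg)) i.1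
    (List.mem_range.2 i.2)
  simp only [Bool.and_eq_true, Nat.blt_eq, Nat.beq_eq] at h
  simp only [spinPerm, dif_pos hg, Equiv.Perm.inv_def, Equiv.coe_fn_symm_mk, Nat.mod_eq_of_lt h.1]

theorem spin_scan : ∀ l : List ℕ, (∀ g ∈ l, g < 8) → ∀ i : Fin 1080,
    (((l.map spinPerm).prod)⁻¹ i).1 = imgS l i.1 := by
  intro l
  induction l with
  | nil => intro _ i; simp [imgS, Cert.fold]
  | cons a l ih =>
    intro hl i
    rw [List.map_cons, List.prod_cons, mul_inv_rev, Equiv.Perm.mul_apply,
      ih (fun x hx => hl x (List.mem_cons_of_mem _ hx)), spinPerm_inv a (hl a List.mem_cons_self)]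
    simp [imgS, Cert.fold]

/-- The seven classes. -/
theorem exists_reps : ∃ Y : Fin 7 → Subgroup (PresentedGroup Fi22Sub.pres),
    (∀ i, Nat.card (Y i) = 3) ∧ (∀ i j, Conj (Y i) (Y j) → i = j) ∧
      ∀ X : Subgroup (PresentedGroup Fi22Sub.pres), Nat.card X = 3 → ∃ i, Conj X (Y i) := by
  classical
  obtain ⟨ψ, hψ⟩ := invPres_prod (n := 7) (RL0 := Fi22Sub.RL0) (IV := 0x8398a418820) O7Rep.iso
    fun l hl => ⟨(O7Rep.rels_fix l hl).1, O7Rep.rels_one l hl⟩
  let φ : ℕ → PresentedGroup Fi22Sub.pres := fun g => Fi22Sub.letters.phi Fi22Sub.pres g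
  let f := O7Rep.σ.comp ψ
  have hf : ∀ g < 8, ∀ i : Fin 2187, ((f (φ g))⁻¹ i).1 = get32 O7Rep.table (i.1 * 8 + g) := by
    intro g hg i
    rw [MonoidHom.comp_apply, hψ g hg]
    exact O7Rep.σ_iso g hg i
  have hge : 4585351680 ≤ Nat.card f.range := O7Slp.card_ge f φ fun g hg i => hf g hg i
  have hinj : Function.Injective f := injective_of_card f Fi22Sub.card_le hge
  have : Finite (PresentedGroup Fi22Sub.pres) := Nat.finite_of_card_ne_zero Fi22Sub.card_le.1
  have hcard : Nat.card (PresentedGroup Fi22Sub.pres) = 4585351680 :=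
    le_antisymm Fi22Sub.card_le.2
      (hge.trans (Nat.card_le_card_of_surjective f.rangeRestrict f.rangeRestrict_surjective))
  have hsep : ∀ σ ∈ f.range, (∀ b ∈ Check.base, ∀ i : Fin 2187, i.1 = b → σ i = i) → σ = 1 := by
    intro σ hσ hfix
    refine Schur.WordCodeCert.separate_of_levels f (slp_sound f φ (fun g hg i => hf g hg i) O7Slp.slp_ok)
      O7Slp.levels_ok ?_ hσ (by rw [base_eq]; exact hfix)
    rw [O7Slp.size_eq, ← hcard]
    exact le_of_eq (Nat.card_congr (MonoidHom.ofInjective hinj).toEquiv).symm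
  obtain ⟨θ, hθ⟩ := invPres_prod (n := 7) (RL0 := Fi22Sub.RL0) (IV := 0x8398a418820) spinPerm fun l hl => by
    have h := List.all_eq_true.1 spin_rels l hl
    simp only [Bool.and_eq_true, List.all_eq_true, List.mem_range, Nat.blt_eq, Nat.beq_eq] at h
    refine ⟨h.1, inv_eq_one.1 (Equiv.ext fun i => Fin.ext ?_)⟩
    rw [spin_scan l h.1, h.2 i.1 i.2]
    rfl
  -- the elements
  let E := vals φ Data.steps
  have himgV : ∀ l : List ℕ, (∀ g ∈ l, g < 8) → ∀ i : Fin 2187,
      ((f (l.map φ).prod)⁻¹ i).1 = imgV l i.1 := scan_of_table f φ hf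
  have himgS : ∀ l : List ℕ, (∀ g ∈ l, g < 8) → ∀ i : Fin 1080,
      ((θ (l.map φ).prod)⁻¹ i).1 = imgS l i.1 := by
    intro l hl i
    rw [map_list_prod, List.map_map, List.map_congr_left (f := θ ∘ φ) (g := spinPerm) fun g hg => hθ g (hl g hg)]
    exact spin_scan l hl i
  have hrep := rep_vals φ f himgV Data.steps Data.tab fun k hk =>
    List.all_eq_true.1 tab_ok k (List.mem_range.2 hk)
  have hrep2 := rep_vals φ θ himgS Data.steps Data.spin fun k hk =>
    List.all_eq_true.1 spin_ok k (List.mem_range.2 hk)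
  obtain ⟨hgens, hconjs, hlen, hrlen, hroots⟩ := lists_ok
  simp only [List.all_eq_true, Nat.blt_eq, Bool.and_eq_true] at hgens hconjs hroots
  have hB : ∀ b ∈ Check.base, b < 2187 := by decide +kernel
  have heq := @eqB_iff _ _ 2187 12 f E Data.tab Check.base _ hrep hB hinj hsep
  have hrootlt := fun x => nfi_lt (M := Data.steps.length) hgens 9 0 x (by omega)
  -- the roots
  let r : Fin 7 → PresentedGroup Fi22Sub.pres :=
    fun k => val E (nfi Data.gens 9 0 (Data.roots.getD k.1 0))
  have hmem : ∀ k : Fin 7, Data.roots.getD k.1 0 ∈ Data.roots := fun k => by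
    rw [List.getD_eq_getElem _ _ (by omega)]; exact List.getElem_mem _
  have hr : ∀ k, orderOf (r k) = 3 := by
    intro k
    have h := List.all_eq_true.1 roots_ok _ (hmem k)
    simp only [Bool.and_eq_true, Bool.not_eq_true'] at h
    have hl := hrootlt (Data.roots.getD k.1 0)
    refine orderOf_eq_prime ?_ fun h1 => ?_
    · have h3 := (heq (fun a ha => by simp only [List.mem_append, or_self] at ha; exact hl a ha)
        (fun a ha => absurd ha List.not_mem_nil)).1 h.1
      rw [val_append, val_append, show val E [] = 1 from rfl] at h3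
      rw [pow_three, ← mul_assoc]
      exact h3
    · rw [(heq hl (fun a ha => absurd ha List.not_mem_nil)).2 h1] at h
      simp at h
  refine ⟨fun k => Subgroup.zpowers (r k), fun k => by rw [Nat.card_zpowers, hr k], ?_, ?_⟩
  · intro i j hij
    have h1 := fixSet_conj f sing (fun g x => sing_σ (ψ g) x) hij
    have h2 := fixSet_conj θ (fun _ => true) (fun _ _ => rfl) hij
    rw [fixCount_eq f sing hrep (hrootlt _), fixCount_eq f sing hrep (hrootlt _)] at h1
    rw [fixCount_eq θ (fun _ => true) hrep2 (hrootlt _),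
      fixCount_eq θ (fun _ => true) hrep2 (hrootlt _)] at h2
    have hi : i.1 < Data.invs.length := by rw [← invs_ok, List.length_map, hrlen]; exact i.2
    have hj : j.1 < Data.invs.length := by rw [← invs_ok, List.length_map, hrlen]; exact j.2
    refine Fin.ext ((invs_nodup.getElem_inj_iff (hi := hi) (hj := hj)).1 ?_)
    simp only [← invs_ok, List.getElem_map]
    rw [← List.getD_eq_getElem _ 0, ← List.getD_eq_getElem _ 0, h1, h2]
  · intro X hX
    set H := Cert.K E Data.gens 0 with hHdef
    obtain ⟨hH, hHcard⟩ : (∀ y ∈ H, ∃ x < 3 ^ 9, y = val E (nfi Data.gens 9 0 x)) ∧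
        Nat.card H = 3 ^ 9 := by
      have h := K_spec f E hrep hB hinj hsep hgens
        (fun i hi => List.all_eq_true.1 rel_ok i (List.mem_range.2 (hlen ▸ hi)))
        (fun i hi => List.all_eq_true.1 top_ok i (List.mem_range.2 (hlen ▸ hi))) 9 (by omega)
      rw [show Data.gens.length - 9 = 0 by omega] at h
      exact h
    have hfac : Nat.card H = 3 ^ (Nat.card (PresentedGroup Fi22Sub.pres)).factorization 3 := by
      rw [hHcard, hcard, show (4585351680 : ℕ) = 3 ^ 9 * 232960 by norm_num,
        Nat.factorization_mul (by norm_num) (by norm_num), Nat.Prime.factorization_pow Nat.prime_three]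
      simp [Nat.factorization_eq_zero_of_not_dvd (show ¬ 3 ∣ 232960 by norm_num)]
    have hXp : IsPGroup 3 X := IsPGroup.of_card (n := 1) (by rw [hX, pow_one])
    obtain ⟨R, hR⟩ := hXp.exists_le_sylow
    obtain ⟨u, hu⟩ := MulAction.exists_smul_eq (PresentedGroup Fi22Sub.pres) R (Sylow.ofCard H hfac)
    obtain ⟨x, hx⟩ := exists_prime_orderOf_dvd_card' 3 (G := X) (by rw [hX])
    have hxX : X = Subgroup.zpowers (x : PresentedGroup Fi22Sub.pres) := by
      refine (Subgroup.eq_of_le_of_card_ge (Subgroup.zpowers_le.2 x.2) ?_).symm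
      rw [Nat.card_zpowers, Subgroup.orderOf_coe, hx, hX]
    have hy : u * (x : PresentedGroup Fi22Sub.pres) * u⁻¹ ∈ H := by
      have hu' := congrArg (fun P : Sylow 3 (PresentedGroup Fi22Sub.pres) =>
        (P : Subgroup (PresentedGroup Fi22Sub.pres))) hu
      simp only [Sylow.smul_def, Sylow.pointwise_smul_def] at hu'
      show _ ∈ ((Sylow.ofCard H hfac : Sylow 3 _) : Subgroup (PresentedGroup Fi22Sub.pres))
      rw [← hu']
      exact ⟨x, hR x.2, rfl⟩
    obtain ⟨q, hq, hqe⟩ := hH _ hy
    have hx3 : orderOf (val E (nfi Data.gens 9 0 q)) = 3 := by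
      rw [← hqe, ← hx, ← Subgroup.orderOf_coe x]
      exact orderOf_injective (MulAut.conj u).toMonoidHom (MulAut.conj u).injective (x : _)
    have hq0 : q ≠ 0 := by
      rintro rfl
      have h0 : nfi Data.gens 9 0 0 = [] := by decide +kernel
      rw [h0, show val E [] = 1 from rfl, orderOf_one] at hx3
      omega
    obtain ⟨k, hk, hc⟩ := to_root f E hrep hB hinj hsep (gens := Data.gens) hgens hconjs
      (fun y hy hy0 => forest_ok y (by rw [hlen] at hy; exact hy) hy0)
      _ q (by rw [hlen]; exact hq) hq0 rfl (by rw [hlen]; exact hx3 ▸ pow_orderOf_eq_one _)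
    refine ⟨⟨k, hrlen ▸ hk⟩, ?_⟩
    rw [hlen] at hc
    rw [hxX]
    exact (conj_zpowers hqe).trans hc

end Cfsg.Agent.Lib.O7Three.Main
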